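import Groth.Agent.SSMod.K755.Plan3
import Groth.Agent.Etbase.FiniteUnram
import Mathlib.AlgebraicGeometry.ZariskisMainTheorem
import Mathlib.Algebra.GCDMonoid.IntegrallyClosed
import Mathlib.RingTheory.Bezout
import Mathlib.RingTheory.Valuation.ValuationRing

/-!
# MARKIMM: marks are closed immersions near points with at most one preimage

* `isAlgClosed_of_surjective`: a residue field of an integrally closed domain with algebraically closed fraction
  field is algebraically closed.
* `exists_nhd_isClosedImmersion`: a proper unramified morphism whose fibre over `s` is one point with the same residue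
  field is a closed immersion near `s`.
* `main : K755.SSPlan.MarkImm`.
-/

set_option autoImplicit false
set_option backward.isDefEq.respectTransparency.types false
set_option backward.defeqAttrib.useBackward true
universe u
open CategoryTheory CategoryTheory.Limits AlgebraicGeometry TopologicalSpace

namespace K347.MarkImm

open Polynomial in
theorem isAlgClosed_of_surjective {R k : Type*} [CommRing R] [IsDomain R] [IsIntegrallyClosed R]
    [IsAlgClosed (FractionRing R)] [Field k] (φ : R →+* k) (hφ : Function.Surjective φ) : IsAlgClosed k := by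
  refine IsAlgClosed.of_exists_root k fun p hp hirr => ?_
  obtain ⟨P, hP, hPd, hPm⟩ := Polynomial.lifts_and_degree_eq_and_monic
    ((Polynomial.mem_lifts p).mpr (Polynomial.map_surjective φ hφ p)) hp
  have hdeg : (P.map (algebraMap R (FractionRing R))).degree ≠ 0 := by
    rw [hPm.degree_map, hPd]
    exact (Polynomial.degree_pos_of_irreducible hirr).ne'
  obtain ⟨z, hz⟩ := IsAlgClosed.exists_root _ hdeg
  have hz' : IsIntegral R z := ⟨P, hPm, by
    rw [Polynomial.IsRoot.def, Polynomial.eval_map] at hz
    exact hz⟩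
  obtain ⟨r, rfl⟩ := IsIntegrallyClosed.isIntegral_iff.mp hz'
  refine ⟨φ r, ?_⟩
  have hr : P.eval r = 0 := by
    rw [Polynomial.IsRoot.def, Polynomial.eval_map, ← Polynomial.aeval_def, Polynomial.aeval_algebraMap_apply] at hz
    have := (FaithfulSMul.algebraMap_injective R (FractionRing R)) (hz.trans (map_zero _).symm)
    simpa [Polynomial.coe_aeval_eq_eval] using this
  rw [← hP, Polynomial.eval_map, Polynomial.eval₂_at_apply, hr, map_zero]

theorem exists_nhd_isClosedImmersion {X S : Scheme.{u}} (f : X ⟶ S) [IsProper f] [FormallyUnramified f] (s : S) (x : X)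
    (hx : f ⁻¹' {s} = {x}) (hκ : Function.Surjective (f.residueFieldMap x)) :
    ∃ U : S.Opens, s ∈ U ∧ IsClosedImmersion (f ∣_ U) := by
  let p : pullback f f ⟶ S := pullback.fst f f ≫ f
  let W : Set ↥(pullback f f) := (Set.range (pullback.diagonal f))ᶜ
  have hW : IsClosed W := (pullback.diagonal f).isOpenEmbedding.isOpen_range.isClosed_compl
  have hpW : IsClosed (p '' W) := p.isClosedMap _ hW
  let U : S.Opens := ⟨(p '' W)ᶜ, hpW.isOpen_compl⟩
  have hsU : s ∈ U := by
    rintro ⟨z, hz, hzs⟩
    exact hz (Groth.Agent.Etbase.FiniteUnram.mem_range_diagonal f s x hx hκ z hzs)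
  refine ⟨U, hsU, ?_⟩
  have huniv : UniversallyInjective (f ∣_ U) := by
    refine ((tfae_universallyInjective (f ∣_ U)).out 0 1 rfl rfl).mpr ?_
    intro K _ g₁ g₂ (hg : g₁ ≫ f ∣_ U = g₂ ≫ f ∣_ U)
    rw [← cancel_mono (f ⁻¹ᵁ U).ι]
    have hg' : (g₁ ≫ (f ⁻¹ᵁ U).ι) ≫ f = (g₂ ≫ (f ⁻¹ᵁ U).ι) ≫ f := by
      rw [Category.assoc, Category.assoc, ← morphismRestrict_ι, reassoc_of% hg]
    let z : Spec (.of K) ⟶ pullback f f := pullback.lift _ _ hg'
    have hz : Set.range z ⊆ Set.range (pullback.diagonal f) := by
      rintro _ ⟨y, rfl⟩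
      by_contra hy
      have h1 : p (z y) ∈ p '' W := ⟨z y, hy, rfl⟩
      have h2 : p (z y) ∈ U := by
        have : z ≫ p = g₁ ≫ f ∣_ U ≫ U.ι := by
          rw [← Category.assoc, pullback.lift_fst, Category.assoc, morphismRestrict_ι]
        rw [← Scheme.Hom.comp_apply, this, ← Category.assoc, Scheme.Hom.comp_apply]
        exact ((g₁ ≫ f ∣_ U) y).2
      exact h2 h1
    have h3 := IsOpenImmersion.lift_fac (pullback.diagonal f) z hz
    have h4 : z ≫ pullback.fst f f = z ≫ pullback.snd f f := by
      rw [← h3, Category.assoc, Category.assoc, pullback.diagonal_fst, pullback.diagonal_snd]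
    rwa [pullback.lift_fst, pullback.lift_snd] at h4
  have hdiag : Surjective (pullback.diagonal (f ∣_ U)) :=
    (UniversallyInjective.iff_diagonal _).mp huniv
  have hiso : IsIso (pullback.diagonal (f ∣_ U)) := by
    have h1 : FormallyUnramified (f ∣_ U) :=
      MorphismProperty.of_isPullback (isPullback_morphismRestrict f U).flip ‹_›
    exact (isIso_iff_isOpenImmersion_and_surjective _).mpr ⟨inferInstance, hdiag⟩
  have hmono : Mono (f ∣_ U) := (pullback.isIso_diagonal_iff _).mp hiso
  rw [IsClosedImmersion.iff_isProper_and_mono]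
  exact ⟨inferInstance, hmono⟩

/-- The residue field of `Spec R` at the closed point. -/
theorem isAlgClosed_closedPoint (R : Type u) [CommRing R] [IsDomain R] [IsLocalRing R] [IsIntegrallyClosed R]
    [IsAlgClosed (FractionRing R)] :
    IsAlgClosed ((Spec (CommRingCat.of R)).residueField (IsLocalRing.closedPoint R)) := by
  let e := Scheme.Spec.residueFieldIso (CommRingCat.of R) (IsLocalRing.closedPoint R)
  let φ : R →+* (Spec (CommRingCat.of R)).residueField (IsLocalRing.closedPoint R) :=
    e.inv.hom.comp (algebraMap R (IsLocalRing.maximalIdeal R).ResidueField)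
  refine isAlgClosed_of_surjective φ ?_
  have h1 : Function.Surjective (algebraMap R (IsLocalRing.maximalIdeal R).ResidueField) :=
    Ideal.algebraMap_residueField_surjective _
  have h2 : Function.Surjective e.inv.hom := (ConcreteCategory.bijective_of_isIso e.inv).2
  exact h2.comp h1

theorem main : K755.SSPlan.MarkImm.{u} := by
  intro R _ _ _ _ Y D ψ _ j _ hE y hy hyc hsub
  have hEt : Etale (j ≫ ψ) := hE
  have hUn : FormallyUnramified j := FormallyUnramified.of_comp j ψ
  by_cases hne : (j ⁻¹' {y} : Set D).Nonempty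
  · obtain ⟨x, hx⟩ := hne
    have hx' : j x = y := hx
    subst hx'
    refine exists_nhd_isClosedImmersion j (j x) x
      (Set.eq_singleton_iff_unique_mem.mpr ⟨rfl, fun z hz => hsub hz rfl⟩) ?_
    have hcl : IsAlgClosed ((Spec (CommRingCat.of R)).residueField (ψ (j x))) := by
      rw [hy]
      exact isAlgClosed_closedPoint R
    have hcl' : IsAlgClosed ((Spec (CommRingCat.of R)).residueField ((j ≫ ψ) x)) := hcl
    have hsurj : Function.Surjective ((j ≫ ψ).residueFieldMap x) := by
      let _ : Algebra ((Spec (CommRingCat.of R)).residueField ((j ≫ ψ) x)) (D.residueField x) :=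
        ((j ≫ ψ).residueFieldMap x).hom.toAlgebra
      have hsep : Algebra.IsSeparable ((Spec (CommRingCat.of R)).residueField ((j ≫ ψ) x)) (D.residueField x) :=
        inferInstanceAs (letI : Algebra ((Spec (CommRingCat.of R)).residueField ((j ≫ ψ) x)) (D.residueField x) :=
          ((j ≫ ψ).residueFieldMap x).hom.toAlgebra
          Algebra.IsSeparable ((Spec (CommRingCat.of R)).residueField ((j ≫ ψ) x)) (D.residueField x))
      exact (IsAlgClosed.algebraMap_bijective_of_isIntegral
        (k := (Spec (CommRingCat.of R)).residueField ((j ≫ ψ) x)) (K := D.residueField x)).2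
    rw [Scheme.residueFieldMap_comp] at hsurj
    intro b
    obtain ⟨a, ha⟩ := hsurj b
    exact ⟨ψ.residueFieldMap (j x) a, ha⟩
  · let U : Y.Opens := ⟨(Set.range j)ᶜ, j.isClosedMap.isClosed_range.isOpen_compl⟩
    refine ⟨U, ?_, ?_⟩
    · rintro ⟨x, hx⟩
      exact hne ⟨x, hx⟩
    · have : IsEmpty (j ⁻¹ᵁ U).toScheme := ⟨fun z => z.2 ⟨z.1, rfl⟩⟩
      exact inferInstanceAs (IsClosedImmersion (j ∣_ U))

end K347.MarkImm

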